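import Groth.Agent.Lib.PoleOne18.Scheme

/-!
# Functions on an affine open with a pole at an outside point of codimension one
-/

set_option autoImplicit false
set_option linter.style.haveILetI false
universe u

open CategoryTheory AlgebraicGeometry TopologicalSpace Opposite IsDedekindDomain IsLocalRing
open scoped WithZero

namespace Groth.Agent.CodimAffNN12

open Groth.Agent.M1 (ores)
open Groth.Agent.Pic18 (finite_spec fromSpecStalk_mem_basicOpen_iff)
open Groth.Agent.PoleOne18 (Param exists_mul_forall_gt_one)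

variable {X : Scheme.{u}} (U : X.Opens) {x : X}

variable [X.IsSeparated] [QuasiCompact U.ι] [IsNoetherianRing (X.presheaf.stalk x)] (hgen : ∀ η, η ⤳ x → η ≠ x → η ∈ U) (hx : x ∉ U)
  (hd : ringKrullDim (X.presheaf.stalk x) ≤ 1)

include hgen hx hd in
/-- An affine neighbourhood on which `U` is a basic open inside a given open containing the punctured
spectrum of the local ring. -/
theorem exists_chart (W : X.Opens) (hW : ∀ η, η ⤳ x → η ≠ x → η ∈ W) :
    ∃ (V : X.Opens) (f : Γ(X, V)), IsAffineOpen V ∧ x ∈ V ∧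
      V ⊓ U = X.basicOpen f ∧ X.basicOpen f ≤ W := by
  obtain ⟨A, hA, hxA, -⟩ := exists_isAffineOpen_mem_and_subset (X := X) (x := x) (U := ⊤) trivial
  haveI := finite_spec hd
  let R := X.presheaf.stalk x
  let φ : Γ(X, A) →+* R := (X.presheaf.germ A x hxA).hom
  let F : Set (PrimeSpectrum R) := {q | q ≠ IsLocalRing.closedPoint R}
  let pt : PrimeSpectrum R → X := fun q => X.fromSpecStalk x q
  have hpt : ∀ q ∈ F, pt q ∈ A ⊓ U ⊓ W := by
    intro q hq
    have hs : pt q ⤳ x := (Scheme.range_fromSpecStalk (x := x)).subset ⟨q, rfl⟩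
    have hne : pt q ≠ x := fun h => hq ((X.fromSpecStalk x).isEmbedding.injective
      (h.trans Scheme.fromSpecStalk_closedPoint.symm))
    exact ⟨⟨hs.mem_open A.2 hxA, hgen _ hs hne⟩, hW _ hs hne⟩
  choose! a ha hqa using fun q (hq : q ∈ F) =>
    hA.exists_basicOpen_le (V := A ⊓ U ⊓ W) ⟨pt q, hpt q hq⟩ (hpt q hq).1.1
  -- prime avoidance
  obtain ⟨f, hfI, hfF⟩ : ∃ f ∈ Ideal.span (a '' F), ∀ q ∈ F, φ f ∉ q.asIdeal := by
    by_contra hcon
    push Not at hcon
    have hsub : ((Ideal.span (a '' F) : Ideal Γ(X, A)) : Set Γ(X, A)) ⊆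
        ⋃ q ∈ F, ((q.asIdeal.comap φ : Ideal Γ(X, A)) : Set Γ(X, A)) := fun f hf => by
      obtain ⟨q, hq, h⟩ := hcon f hf
      exact Set.mem_biUnion hq h
    obtain ⟨q, hq, hle⟩ := (Ideal.subset_union_prime_finite (Set.toFinite F)
      (f := fun q : PrimeSpectrum R => q.asIdeal.comap φ) (IsLocalRing.closedPoint R)
      (IsLocalRing.closedPoint R) fun q _ _ _ => inferInstance).1 hsub
    exact (fromSpecStalk_mem_basicOpen_iff hxA (a q) q).1 (hqa q hq)
      (hle (Ideal.subset_span ⟨q, hq, rfl⟩))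
  have hfle : X.basicOpen f ≤ A ⊓ U ⊓ W := by
    intro z hz
    have hzA : z ∈ A := X.basicOpen_le f hz
    rw [X.mem_basicOpen f z hzA] at hz
    by_contra hzW
    have hle : Ideal.span (a '' F) ≤
        (maximalIdeal (X.presheaf.stalk z)).comap (X.presheaf.germ A z hzA).hom := by
      rw [Ideal.span_le]
      rintro _ ⟨q, hq, rfl⟩ hu
      exact hzW (ha q hq ((X.mem_basicOpen (a q) z hzA).2 hu))
    exact hle hfI hz
  -- comparison with the basic opens covering `A ⊓ U`
  let H := {h : Γ(X, A) // X.basicOpen h ≤ U}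
  have hcompact : IsCompact ((A ⊓ U : X.Opens) : Set X) := by
    have h := (U.ι.isCompact_preimage hA.isCompact).image U.ι.continuous
    rwa [Scheme.Hom.coe_preimage, Set.image_preimage_eq_inter_range, Scheme.Opens.range_ι] at h
  obtain ⟨t, ht⟩ := hcompact.elim_finite_subcover (fun h : H => (X.basicOpen h.1 : Set X))
    (fun h => (X.basicOpen h.1).2) fun z hz => by
      obtain ⟨h, hle, hzh⟩ := hA.exists_basicOpen_le (V := U) ⟨z, hz.2⟩ hz.1
      exact Set.mem_iUnion.2 ⟨⟨h, hle⟩, hzh⟩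
  have hnear : ∀ h : H, ∀ᶠ z in nhds x, z ∈ X.basicOpen h.1 → z ∈ X.basicOpen f := by
    intro h
    have hrad : φ h.1 ∈ (Ideal.span {φ f}).radical := by
      rw [Ideal.radical_eq_sInf, Submodule.mem_sInf]
      rintro P ⟨hPf, hP⟩
      have hmem : φ f ∈ P := hPf (Ideal.mem_span_singleton_self _)
      have hcl : (⟨P, hP⟩ : PrimeSpectrum R) = IsLocalRing.closedPoint R :=
        by_contra fun hne => hfF ⟨P, hP⟩ hne hmem
      have e : P = maximalIdeal R := congrArg PrimeSpectrum.asIdeal hcl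
      rw [e]
      exact fun hu => hx (h.2 ((X.mem_basicOpen h.1 x hxA).2 hu))
    obtain ⟨n, hn⟩ := hrad
    obtain ⟨c, hc⟩ := Ideal.mem_span_singleton'.1 hn
    obtain ⟨B, hxB, r, hr⟩ := X.presheaf.exists_germ_eq c
    have hxAB : x ∈ A ⊓ B := ⟨hxA, hxB⟩
    have e : X.presheaf.germ (A ⊓ B) x hxAB (ores (inf_le_left : A ⊓ B ≤ A) h.1 ^ n) =
        X.presheaf.germ (A ⊓ B) x hxAB
          (ores (inf_le_right : A ⊓ B ≤ B) r * ores (inf_le_left : A ⊓ B ≤ A) f) := by
      rw [map_pow, map_mul, X.presheaf.germ_res_apply, X.presheaf.germ_res_apply,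
        X.presheaf.germ_res_apply, hr]
      exact hc.symm
    obtain ⟨Z, hxZ, i₁, i₂, hz⟩ := X.presheaf.germ_eq x hxAB hxAB _ _ e
    refine Filter.eventually_of_mem (Z.2.mem_nhds hxZ) fun z (hzZ : z ∈ Z) hzh => ?_
    have hzAB : z ∈ A ⊓ B := i₁.le hzZ
    have h2 := congrArg (X.presheaf.germ Z z hzZ) hz
    simp only [ores, TopCat.Presheaf.germ_res_apply, map_pow, map_mul] at h2
    rw [X.mem_basicOpen h.1 z hzAB.1] at hzh
    rw [X.mem_basicOpen f z hzAB.1]
    exact isUnit_of_mul_isUnit_right (h2 ▸ hzh.pow n)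
  obtain ⟨O, hO, hOo, hxO⟩ := eventually_nhds_iff.1 ((t.eventually_all).2 fun h _ => hnear h)
  obtain ⟨_, ⟨V : X.Opens, hV, rfl⟩, hxV, hVO⟩ :=
    X.isBasis_affineOpens.exists_subset_of_mem_open (show x ∈ O ∩ A from ⟨hxO, hxA⟩) (hOo.inter A.2)
  have hVA : V ≤ A := fun z hz => (hVO hz).2
  refine ⟨V, ores hVA f, hV, hxV, ?_, ?_⟩
  · rw [Scheme.basicOpen_res]
    ext z
    constructor
    · rintro ⟨hzV, hzU⟩
      obtain ⟨h, hh, hzh⟩ := Set.mem_iUnion₂.1 (ht ⟨hVA hzV, hzU⟩)
      exact ⟨hzV, hO z (hVO hzV).1 h hh hzh⟩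
    · rintro ⟨hzV, hzf⟩
      exact ⟨hzV, (hfle hzf).1.2⟩
  · rw [Scheme.basicOpen_res]
    exact inf_le_right.trans (hfle.trans inf_le_right)

end Groth.Agent.CodimAffNN12

namespace Groth.Agent.CodimAffNN12

open Groth.Agent.M1 (ores)
open Groth.Agent.PoleOne18 (Param exists_mul_forall_gt_one)

/-- The map to the valuation ring of a branch is local. -/
theorem isLocalHom_branch {R : Type u} [CommRing R] [IsLocalRing R] [IsNoetherianRing R] (P : Param R) (j : P.Br)
    (hRW : ∀ r, algebraMap R (P.K j.1) r ∈ (j.2.valuation (P.K j.1)).valuationSubring) :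
    IsLocalHom ((algebraMap R (P.K j.1)).codRestrict (j.2.valuation (P.K j.1)).valuationSubring hRW) := ⟨fun r hr => by
  by_contra hnu
  have h1 := (P.val_algebraMap_lt_one_iff j r).2 hnu
  have h2 : (j.2.valuation (P.K j.1)) (algebraMap R (P.K j.1) r) = 1 := by
    obtain ⟨s, hs⟩ := hr.exists_right_inv
    have e : algebraMap R (P.K j.1) r * (s : P.K j.1) = 1 := congrArg Subtype.val hs
    have h3 := congrArg (j.2.valuation (P.K j.1)) e
    rw [map_mul, map_one] at h3
    exact le_antisymm (hRW r) (by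
      rw [← h3]
      exact mul_le_of_le_one_right' s.2)
  rw [← P.ev_algebraMap] at h2
  exact absurd h1 (not_lt.2 h2.ge)⟩

theorem isDominant_valuationSubring {K : Type u} [Field K] (W : ValuationSubring K) :
    IsDominant (Spec.map (CommRingCat.ofHom W.subtype)) := ⟨by
  show DenseRange (PrimeSpectrum.comap W.subtype)
  rw [PrimeSpectrum.denseRange_comap_iff_ker_le_nilRadical,
    (RingHom.injective_iff_ker_eq_bot _).1 Subtype.val_injective]
  exact bot_le⟩

variable {X : Scheme.{u}} [X.IsSeparated] {U : X.Opens} (hU : IsAffineOpen U) {z : X}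
  [IsNoetherianRing (X.presheaf.stalk z)]
  (hgen : ∀ η, η ⤳ z → η ≠ z → η ∈ U) (hd : ringKrullDim (X.presheaf.stalk z) ≤ 1)

set_option maxHeartbeats 4000000 in
include hd hU hgen in
/-- The branches at a point outside an affine open. -/
theorem branches_at (hz : z ∉ U) :
    ∃ (J : Type u) (_ : Finite J) (w : J → Valuation Γ(X, U) ℤᵐ⁰),
      (∀ j, ∃ a, 1 < w j a) ∧
      (∀ j (b : Γ(X, U)), (∀ η, η ⤳ z → η ≠ z → η ∈ X.basicOpen b) → w j b ≠ 0) ∧
      ∀ c : Γ(X, U), (∀ j, 1 < w j c) → ∃ (n : ℕ) (V : X.Opens) (b : Γ(X, V)), 0 < n ∧ z ∈ V ∧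
        (∀ p ∈ V, p ∉ U → p ∉ X.basicOpen b) ∧ z ∉ X.basicOpen b ∧
        ores (inf_le_left : V ⊓ U ≤ V) b * ores (inf_le_right : V ⊓ U ≤ U) c ^ n = 1 := by
  haveI : QuasiCompact U.ι := by
    haveI : CompactSpace U.toScheme := isCompact_iff_compactSpace.1 hU.isCompact
    exact quasiCompact_of_compactSpace _
  obtain ⟨A, h, hA, hzA, hAU, hhU⟩ := exists_chart U hgen hz hd U hgen
  have hzh : z ∉ X.basicOpen h := fun h' => hz (hhU h')
  obtain ⟨P, hPf⟩ : ∃ P : Param (X.presheaf.stalk z), P.f = X.presheaf.germ A z hzA h := ⟨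
    { f := X.presheaf.germ A z hzA h
      dim := hd
      mem := fun hu => hzh ((X.mem_basicOpen h z hzA).2 hu)
      eq_max := fun q hq hf => by
        have hnot : X.fromSpecStalk z ⟨q, hq⟩ ∉ X.basicOpen h := fun hc =>
          (Pic18.fromSpecStalk_mem_basicOpen_iff hzA h ⟨q, hq⟩).1 hc hf
        have hs : X.fromSpecStalk z ⟨q, hq⟩ ⤳ z := (Scheme.range_fromSpecStalk (x := z)).subset ⟨_, rfl⟩
        have he : X.fromSpecStalk z ⟨q, hq⟩ = z := by
          by_contra hne
          refine hnot ?_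
          rw [← hAU]
          exact ⟨hs.mem_open A.2 hzA, hgen _ hs hne⟩
        exact congrArg PrimeSpectrum.asIdeal ((X.fromSpecStalk z).isEmbedding.injective
          (he.trans Scheme.fromSpecStalk_closedPoint.symm)) }, rfl⟩
  let S := Localization.Away P.f
  letI : Algebra Γ(X, A) Γ(X, X.basicOpen h) := (ores (X.basicOpen_le h)).hom.toAlgebra
  haveI : IsLocalization.Away h Γ(X, X.basicOpen h) := hA.isLocalization_basicOpen h
  let g : Γ(X, A) →+* S := (algebraMap (X.presheaf.stalk z) S).comp (X.presheaf.germ A z hzA).hom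
  let Φ : Γ(X, X.basicOpen h) →+* S :=
    IsLocalization.Away.lift h (g := g) (by
      show IsUnit (algebraMap (X.presheaf.stalk z) S (X.presheaf.germ A z hzA h))
      rw [← hPf]
      exact IsLocalization.Away.algebraMap_isUnit P.f)
  have hΦ : ∀ a : Γ(X, A), Φ (ores (X.basicOpen_le h) a) = g a := fun a => IsLocalization.Away.lift_eq h _ a
  let ψ : Γ(X, U) →+* S := Φ.comp (ores hhU).hom
  haveI := P.finite_br
  refine ⟨P.Br, inferInstance, fun j => (P.val j).comap ψ, fun j => ?_, fun j b hb => ?_, fun c hc => ?_⟩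
  · -- otherwise two maps from the valuation ring to the separated scheme differ
    by_contra hcon
    push Not at hcon
    let K := P.K j.1
    let W : ValuationSubring K := (j.2.valuation K).valuationSubring
    let ρ : Γ(X, X.basicOpen h) →+* K := (P.ev j.1).comp Φ
    have hRW : ∀ r : X.presheaf.stalk z, algebraMap (X.presheaf.stalk z) K r ∈ W := fun r => by
      rw [← P.ev_algebraMap]
      exact P.val_algebraMap_le_one j r
    let π₁ : X.presheaf.stalk z →+* W := (algebraMap (X.presheaf.stalk z) K).codRestrict W hRW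
    have hπ₁ : IsLocalHom π₁ := isLocalHom_branch P j hRW
    let π₂ : Γ(X, U) →+* W := ((P.ev j.1).comp ψ).codRestrict W fun a => hcon a
    let m₁ : Spec (CommRingCat.of W) ⟶ X := Spec.map (CommRingCat.ofHom π₁) ≫ X.fromSpecStalk z
    let m₂ : Spec (CommRingCat.of W) ⟶ X := Spec.map (CommRingCat.ofHom π₂) ≫ hU.fromSpec
    let ι₀ : Spec (CommRingCat.of K) ⟶ Spec (CommRingCat.of W) := Spec.map (CommRingCat.ofHom W.subtype)
    haveI : IsDominant ι₀ := isDominant_valuationSubring W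
    have hm : ι₀ ≫ m₁ = ι₀ ≫ m₂ := by
      have e1 : ι₀ ≫ m₁ = Spec.map (CommRingCat.ofHom ρ) ≫ (hA.basicOpen h).fromSpec := by
        rw [← hA.map_fromSpec (hA.basicOpen h) (homOfLE (X.basicOpen_le h)).op,
          show m₁ = Spec.map (CommRingCat.ofHom π₁) ≫ Spec.map (X.presheaf.germ A z hzA) ≫ hA.fromSpec from by
            simp only [m₁, ← hA.fromSpecStalk_eq_fromSpecStalk hzA]; rfl]
        rw [← Spec.map_comp_assoc, ← Spec.map_comp_assoc, ← Spec.map_comp_assoc]
        congr 2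
        ext a
        show algebraMap (X.presheaf.stalk z) K (X.presheaf.germ A z hzA a) = ρ (ores (X.basicOpen_le h) a)
        rw [← P.ev_algebraMap]
        exact congrArg (P.ev j.1) (hΦ a).symm
      have e2 : ι₀ ≫ m₂ = Spec.map (CommRingCat.ofHom ρ) ≫ (hA.basicOpen h).fromSpec := by
        rw [← hU.map_fromSpec (hA.basicOpen h) (homOfLE hhU).op]
        rw [← Spec.map_comp_assoc, ← Spec.map_comp_assoc]
        rfl
      rw [e1, e2]
    have heq : m₁ = m₂ := ext_of_isDominant ι₀ hm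
    have h1 : m₁ (IsLocalRing.closedPoint W) = z := by
      show X.fromSpecStalk z (PrimeSpectrum.comap π₁ (IsLocalRing.closedPoint W)) = z
      rw [IsLocalRing.comap_closedPoint]
      exact Scheme.fromSpecStalk_closedPoint
    have h2 : m₂ (IsLocalRing.closedPoint W) ∈ U := hU.range_fromSpec.le ⟨_, rfl⟩
    rw [← heq, h1] at h2
    exact hz h2
  · intro h0
    have hev : P.ev j.1 (ψ b) = 0 := (map_eq_zero (j.2.valuation (P.K j.1))).1 h0
    let η := X.fromSpecStalk z j.1.1
    have hs : η ⤳ z := (Scheme.range_fromSpecStalk (x := z)).subset ⟨_, rfl⟩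
    have hne : η ≠ z := fun e => j.1.2 (by
      have := (X.fromSpecStalk z).isEmbedding.injective (e.trans Scheme.fromSpecStalk_closedPoint.symm)
      rw [this]
      exact P.mem)
    have hηb := hb η hs hne
    have hηh : η ∈ X.basicOpen h := (Pic18.fromSpecStalk_mem_basicOpen_iff hzA h j.1.1).2 (by rw [← hPf]; exact j.1.2)
    obtain ⟨n, a, ha⟩ := IsLocalization.Away.surj h (ores hhU b)
    have ha' : ores hhU b * ores (X.basicOpen_le h) h ^ n = ores (X.basicOpen_le h) a := ha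
    have hηa : η ∈ X.basicOpen a := by
      have e := congrArg (X.presheaf.germ _ η hηh) ha'
      simp only [ores, map_mul, map_pow, TopCat.Presheaf.germ_res_apply] at e
      rw [X.mem_basicOpen a η (X.basicOpen_le h hηh), ← e]
      exact ((X.mem_basicOpen b η (hhU hηh)).1 hηb).mul (((X.mem_basicOpen h η _).1 hηh).pow n)
    refine (Pic18.fromSpecStalk_mem_basicOpen_iff hzA a j.1.1).1 hηa ((P.ev_aux j.1 _).1 ?_)
    rw [← P.ev_algebraMap]
    have e := congrArg ((P.ev j.1).comp Φ) ha'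
    rw [map_mul] at e
    simp only [RingHom.comp_apply, hΦ] at e
    change P.ev j.1 (ψ b) * _ = _ at e
    rw [hev, zero_mul] at e
    exact e.symm
  · obtain ⟨n₀, b₀, hn₀, hb₀, hbc₀⟩ := P.exists_mul_pow_eq_one (ψ c) hc
    have hb₀r : b₀ ∈ (Ideal.span {P.f}).radical := by
      rw [Ideal.radical_eq_sInf, Submodule.mem_sInf]
      rintro Q ⟨hQf, hQ⟩
      rw [P.eq_max Q hQ (hQf (Ideal.mem_span_singleton_self _))]
      exact hb₀
    obtain ⟨N, hN⟩ := hb₀r
    obtain ⟨r₀, hr₀⟩ := Ideal.mem_span_singleton.1 (Ideal.mul_mem_right b₀ _ hN)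
    rw [← pow_succ] at hr₀
    obtain ⟨n, hn, b, hb, hbc, hbf⟩ : ∃ n, 0 < n ∧ ∃ b, b = b₀ ^ (N + 1) ∧
        algebraMap (X.presheaf.stalk z) S b * ψ c ^ n = 1 ∧ b = P.f * r₀ :=
      ⟨n₀ * (N + 1), Nat.mul_pos hn₀ (Nat.succ_pos _), _, rfl, by
        rw [map_pow, pow_mul, ← mul_pow, hbc₀, one_pow], hr₀⟩
    clear hb hn₀ hbc₀
    obtain ⟨k, a, ha⟩ := IsLocalization.Away.surj h (ores hhU c)
    have ha' : ores hhU c * ores (X.basicOpen_le h) h ^ k = ores (X.basicOpen_le h) a := ha
    have e : ψ c * algebraMap (X.presheaf.stalk z) S P.f ^ k =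
        algebraMap (X.presheaf.stalk z) S (X.presheaf.germ A z hzA a) := by
      have := congrArg Φ ha'
      rw [map_mul, map_pow, hΦ, hΦ] at this
      rw [show algebraMap (X.presheaf.stalk z) S P.f = algebraMap (X.presheaf.stalk z) S (X.presheaf.germ A z hzA h) from congrArg _ hPf]
      exact this
    have e' : algebraMap (X.presheaf.stalk z) S (b * X.presheaf.germ A z hzA a ^ n) =
        algebraMap (X.presheaf.stalk z) S (P.f ^ (k * n)) := by
      rw [map_mul, map_pow, map_pow, ← e, mul_pow, ← mul_assoc, hbc, one_mul, ← pow_mul]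
    obtain ⟨⟨_, l, rfl⟩, hl⟩ := IsLocalization.exists_of_eq (M := Submonoid.powers P.f) e'
    obtain ⟨B₀, hzB₀, r₁, rfl⟩ := X.presheaf.exists_germ_eq r₀
    let B : X.Opens := A ⊓ B₀
    have hzB : z ∈ B := ⟨hzA, hzB₀⟩
    let r : Γ(X, B) := ores (inf_le_left : A ⊓ B₀ ≤ A) h * ores (inf_le_right : A ⊓ B₀ ≤ B₀) r₁
    have hr : X.presheaf.germ B z hzB r = b := by
      rw [hbf, hPf]
      simp only [r, B, ores, map_mul, TopCat.Presheaf.germ_res_apply]
    subst hr
    have hzAB : z ∈ A ⊓ B := ⟨hzA, hzB⟩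
    have e2 : X.presheaf.germ (A ⊓ B) z hzAB
        (ores (inf_le_left : A ⊓ B ≤ A) h ^ l *
          (ores (inf_le_right : A ⊓ B ≤ B) r * ores (inf_le_left : A ⊓ B ≤ A) a ^ n)) =
        X.presheaf.germ (A ⊓ B) z hzAB
          (ores (inf_le_left : A ⊓ B ≤ A) h ^ l * ores (inf_le_left : A ⊓ B ≤ A) h ^ (k * n)) := by
      simp only [ores, map_mul, map_pow, TopCat.Presheaf.germ_res_apply]
      rw [← hPf]
      exact hl
    obtain ⟨V, hzV, i₁, i₂, hV⟩ := X.presheaf.germ_eq z hzAB hzAB _ _ e2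
    have hVA : V ≤ A := i₁.le.trans inf_le_left
    have hVB : V ≤ B := i₁.le.trans inf_le_right
    have hle : X.basicOpen (ores hVB r) ≤ U := fun q hq => by
      have h1 : q ∈ X.basicOpen (X.presheaf.map (homOfLE hVB).op r) := hq
      rw [Scheme.basicOpen_res] at h1
      have h2 := h1.2
      rw [show r = _ * _ from rfl, Scheme.basicOpen_mul] at h2
      have h3 : q ∈ X.basicOpen (X.presheaf.map (homOfLE (inf_le_left : A ⊓ B₀ ≤ A)).op h) := h2.1
      rw [Scheme.basicOpen_res] at h3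
      exact hhU h3.2
    refine ⟨n, V, ores hVB r, hn, hzV, fun p _ hpU hp => hpU (hle hp), fun hz' => hz (hle hz'), ?_⟩
    refine TopCat.Presheaf.section_ext X.sheaf _ _ _ fun p hp => ?_
    have hph : p ∈ X.basicOpen h := by
      rw [← hAU]
      exact ⟨hVA hp.1, hp.2⟩
    change X.presheaf.germ (V ⊓ U) p hp _ = X.presheaf.germ (V ⊓ U) p hp _
    have e3 := congrArg (X.presheaf.germ V p hp.1) hV
    have e4 := congrArg (X.presheaf.germ _ p hph) ha'
    simp only [ores, map_mul, map_pow, map_one, TopCat.Presheaf.germ_res_apply] at e3 e4 ⊢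
    have hu : IsUnit (X.presheaf.germ A p (hVA hp.1) h) := (X.mem_basicOpen h p _).1 hph
    refine ((hu.pow (k * n)).mul (hu.pow l)).mul_left_inj.1 ?_
    rw [← e4, mul_pow, ← pow_mul] at e3
    linear_combination e3

end Groth.Agent.CodimAffNN12
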